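import Mathlib
import Cfsg.Agent.Lib.Offenders.Structure
import Cfsg.Agent.Lib.ThompsonA.Thompson

/-!
Abelian (not necessarily elementary) offenders for the prime `2`: the offender bound holds, and
equality forces the group to be elementary abelian.
-/

set_option autoImplicit false

namespace Cfsg.Agent.Lib.Offenders.AbelianTwo

open Subgroup
open scoped commutatorElement

/-- The kernels of the iterates of an endomorphism. -/
def iterKer {W : Type*} [CommGroup W] (δ : W →* W) (i : ℕ) : Subgroup W where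
  carrier := {w | (⇑δ)^[i] w = 1}
  one_mem' := iterate_map_one δ i
  mul_mem' {a b} ha hb := by
    simp only [Set.mem_setOf_eq] at ha hb ⊢
    rw [iterate_map_mul, ha, hb, one_mul]
  inv_mem' {a} ha := by
    simp only [Set.mem_setOf_eq] at ha ⊢
    rw [iterate_map_inv, ha, inv_one]

theorem mem_iterKer {W : Type*} [CommGroup W] {δ : W →* W} {i : ℕ} {w : W} :
    w ∈ iterKer δ i ↔ (⇑δ)^[i] w = 1 := Iff.rfl

theorem iterKer_le_succ {W : Type*} [CommGroup W] (δ : W →* W) (i : ℕ) :
    iterKer δ i ≤ iterKer δ (i + 1) := fun w hw => by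
  rw [mem_iterKer, Function.iterate_succ_apply', mem_iterKer.1 hw, map_one]

theorem iterKer_stable {W : Type*} [CommGroup W] (δ : W →* W) {i : ℕ}
    (h : iterKer δ i = iterKer δ (i + 1)) : ∀ N, iterKer δ N ≤ iterKer δ i := by
  intro N
  induction N with
  | zero =>
    intro w hw
    have hw' : w = 1 := hw
    exact hw' ▸ one_mem _
  | succ N ih =>
    intro w hw
    rw [h, mem_iterKer, Function.iterate_succ_apply, ← mem_iterKer]
    exact ih (by rwa [mem_iterKer, ← Function.iterate_succ_apply])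

/-- A `2`-power order automorphism `σ` of an elementary abelian `2`-group moving something under
`σ ^ (2 ^ j)` has fixed points of index at least `2 ^ (2 ^ j)`. -/
theorem fixed_chain {W : Type*} [CommGroup W] [Finite W] (hW : ∀ w : W, w ^ 2 = 1) (σ : W →* W)
    {n j : ℕ} (hn : ∀ w, (⇑σ)^[2 ^ n] w = w) (hj : ∃ w, (⇑σ)^[2 ^ j] w ≠ w) :
    Nat.card {w : W // σ w = w} * 2 ^ 2 ^ j ≤ Nat.card W ∧ ∃ w, σ (σ w) = w ∧ σ w ≠ w := by
  have hinv : ∀ w : W, w⁻¹ = w := fun w => inv_eq_of_mul_eq_one_right (by rw [← sq]; exact hW w)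
  set δ : W →* W := MonoidHom.id W * σ with hδ
  have hδa : ∀ w, δ w = w * σ w := fun w => rfl
  have hpow : ∀ a w, (⇑δ)^[2 ^ a] w = w * (⇑σ)^[2 ^ a] w := by
    intro a
    induction a with
    | zero => exact hδa
    | succ a ih =>
      intro w
      have e : 2 ^ (a + 1) = 2 ^ a + 2 ^ a := by rw [pow_succ]; omega
      rw [e, Function.iterate_add_apply, ih, ih, iterate_map_mul, Function.iterate_add_apply]
      have h1 : (⇑σ)^[2 ^ a] w * (⇑σ)^[2 ^ a] w = 1 := by rw [← sq]; exact hW _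
      rw [mul_assoc, ← mul_assoc ((⇑σ)^[2 ^ a] w), h1, one_mul]
  have hfix : ∀ a w, w ∈ iterKer δ (2 ^ a) ↔ (⇑σ)^[2 ^ a] w = w := by
    intro a w
    rw [mem_iterKer, hpow, mul_eq_one_iff_eq_inv, hinv]
    exact eq_comm
  have hstrict : ∀ i ≤ 2 ^ j, iterKer δ i < iterKer δ (i + 1) := by
    intro i hi
    refine lt_of_le_of_ne (iterKer_le_succ δ i) fun he => ?_
    obtain ⟨w, hw⟩ := hj
    have h1 : w ∈ iterKer δ i := iterKer_stable δ he (2 ^ n) ((hfix n w).2 (hn w))
    have hmono : Monotone (iterKer δ) := monotone_nat_of_le_succ (iterKer_le_succ δ)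
    exact hw ((hfix j w).1 (hmono hi h1))
  have hP : IsPGroup 2 W := fun w => ⟨1, by rw [pow_one]; exact hW w⟩
  have hcard : ∀ d ≤ 2 ^ j, Nat.card (iterKer δ 1) * 2 ^ d ≤ Nat.card (iterKer δ (1 + d)) := by
    intro d hd
    induction d with
    | zero => simp
    | succ d ih =>
      have hstep := le_card_relIndex_step (p := 2) (hP.to_subgroup _) (hstrict (1 + d) (by omega))
      calc Nat.card (iterKer δ 1) * 2 ^ (d + 1) = 2 * (Nat.card (iterKer δ 1) * 2 ^ d) := by
            rw [pow_succ]; ring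
        _ ≤ 2 * Nat.card (iterKer δ (1 + d)) := Nat.mul_le_mul_left _ (ih (by omega))
        _ ≤ _ := hstep
  refine ⟨?_, ?_⟩
  · have e : Nat.card {w : W // σ w = w} = Nat.card (iterKer δ 1) :=
      Nat.card_congr (Equiv.subtypeEquivRight fun w => (hfix 0 w).symm)
    rw [e]
    exact (hcard _ le_rfl).trans (Subgroup.card_le_card_group _)
  · obtain ⟨w, hw2, hw1⟩ := SetLike.exists_of_lt (hstrict 1 (Nat.one_le_two_pow))
    exact ⟨w, (hfix 1 w).1 hw2, fun h => hw1 ((hfix 0 w).2 h)⟩

section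

variable {G : Type*} [Group G] [Finite G]

/-- The same for conjugation by an element. -/
theorem conj_chain {W : Subgroup G} (hW : IsElementaryAbelian 2 W) {g : G}
    (hg : g ∈ normalizer (W : Set G)) {n j : ℕ} (hn : g ^ 2 ^ n ∈ centralizer (W : Set G))
    (hj : g ^ 2 ^ j ∉ centralizer (W : Set G)) :
    Nat.card ↥(W ⊓ centralizer ({g} : Set G)) * 2 ^ 2 ^ j ≤ Nat.card W ∧
      W ⊓ centralizer ({g} : Set G) < W ⊓ centralizer ({g ^ 2} : Set G) := by
  have := hW.1
  open scoped IsMulCommutative in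
  let σ : ↥W →* ↥W :=
    { toFun := fun w => ⟨g * w * g⁻¹, (mem_normalizer_iff.1 hg _).1 w.2⟩
      map_one' := Subtype.ext (by simp)
      map_mul' := fun a b => Subtype.ext (by simp [mul_assoc]) }
  have hσ : ∀ (i : ℕ) (w : W), (((⇑σ)^[i] w : W) : G) = g ^ i * w * (g ^ i)⁻¹ := by
    intro i w
    induction i with
    | zero => simp
    | succ i ih =>
      rw [Function.iterate_succ_apply', show ((σ ((⇑σ)^[i] w) : W) : G) =
        g * ((⇑σ)^[i] w : W) * g⁻¹ from rfl, ih, pow_succ']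
      simp [mul_assoc]
  have hfix : ∀ (x : G), x * g = g * x ↔ g * x * g⁻¹ = x := fun x => by
    rw [mul_inv_eq_iff_eq_mul, eq_comm]
  have hn' : ∀ w, (⇑σ)^[2 ^ n] w = w := fun w => Subtype.ext (by
    rw [hσ, ← mem_centralizer_iff.1 hn _ w.2, mul_inv_cancel_right])
  have hj' : ∃ w, (⇑σ)^[2 ^ j] w ≠ w := by
    by_contra hc
    refine hj (mem_centralizer_iff.2 fun w hw => ?_)
    have := hσ (2 ^ j) ⟨w, hw⟩
    rw [not_not.1 (not_exists.1 hc ⟨w, hw⟩), eq_comm, mul_inv_eq_iff_eq_mul] at this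
    exact this.symm
  open scoped IsMulCommutative in
  obtain ⟨h1, w, hw2, hw1⟩ := fixed_chain (fun w : W => Subtype.ext (hW.2 _ w.2)) σ hn' hj'
  refine ⟨?_, lt_of_le_of_ne ?_ fun he => hw1 ?_⟩
  · refine le_of_eq_of_le ?_ h1
    congr 1
    exact Nat.card_congr
      { toFun := fun x => ⟨⟨x, x.2.1⟩, Subtype.ext
          ((hfix _).1 (mem_centralizer_singleton_iff.1 x.2.2))⟩
        invFun := fun w => ⟨w.1, w.1.2, mem_centralizer_singleton_iff.2
          ((hfix _).2 (congrArg Subtype.val w.2))⟩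
        left_inv := fun _ => rfl
        right_inv := fun _ => rfl }
  · rintro x ⟨hxW, hx⟩
    exact ⟨hxW, mem_centralizer_singleton_iff.2
      (((show Commute x g from mem_centralizer_singleton_iff.1 hx)).pow_right 2).eq⟩
  · have hmem : (w : G) ∈ W ⊓ centralizer ({g} : Set G) := by
      rw [he]
      refine ⟨w.2, mem_centralizer_singleton_iff.2 ?_⟩
      have := congrArg Subtype.val hw2
      rw [show ((σ (σ w) : W) : G) = g ^ 2 * w * (g ^ 2)⁻¹ from hσ 2 w, mul_inv_eq_iff_eq_mul]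
        at this
      exact this.symm
    exact Subtype.ext ((hfix _).1 (mem_centralizer_singleton_iff.1 hmem.2))

/-- If an abelian group containing the `p`-group `B` fixes all of `C_V(B)`, it centralises `C_Q(B)`. -/
theorem centralizes_of_fix {p : ℕ} [Fact p.Prime] {V Q A B : Subgroup G}
    (hV : IsElementaryAbelian p V) (hA : A ≤ centralizer (B : Set G)) (hBp : IsPGroup p B)
    (hAQ : A ≤ normalizer (Q : Set G)) (hBV : B ≤ normalizer (V : Set G))
    (hQV : Q ≤ normalizer (V : Set G)) (hQf : Q ⊓ centralizer (V : Set G) = ⊥)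
    (hQ : (Nat.card Q).Coprime p) (hWA : V ⊓ centralizer (B : Set G) ≤ centralizer (A : Set G)) :
    Q ⊓ centralizer (B : Set G) ≤ centralizer (A : Set G) := by
  set X := Q ⊓ centralizer (B : Set G) with hX
  set W := V ⊓ centralizer (B : Set G) with hW
  have hAX : A ≤ normalizer (X : Set G) :=
    Coprime.le_normalizer_inf_centralizer hAQ (hA.trans (centralizer_le_normalizer _))
  have hXW : X ≤ normalizer (W : Set G) :=
    Coprime.le_normalizer_inf_centralizer (inf_le_left.trans hQV)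
      ((inf_le_right : X ≤ centralizer (B : Set G)).trans (centralizer_le_normalizer _))
  set Y := ⁅X, A⁆ with hY
  have hYX : Y ≤ X := Coprime.commutator_le_of_le_normalizer hAX
  have hYW : Y ≤ centralizer (W : Set G) := by
    refine commutator_le.2 fun x hx a ha => mem_centralizer_iff.2 fun w hw => ?_
    have hm : x⁻¹ * w * x ∈ W := by
      simpa using (mem_normalizer_iff.1 (hXW (inv_mem hx)) w).1 hw
    have h1 : a⁻¹ * (x⁻¹ * w * x) * a = x⁻¹ * w * x := by
      have := mem_centralizer_iff.1 (hWA hm) a ha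
      rw [mul_assoc a⁻¹, ← this, inv_mul_cancel_left]
    have h2 : a * w = w * a := mem_centralizer_iff.1 (hWA hw) a ha
    calc w * ⁅x, a⁆ = x * (x⁻¹ * w * x) * a * x⁻¹ * a⁻¹ := by
          simp [commutatorElement_def, mul_assoc]
      _ = x * (a * (a⁻¹ * (x⁻¹ * w * x) * a)) * x⁻¹ * a⁻¹ := by simp [mul_assoc]
      _ = x * (a * (x⁻¹ * w * x)) * x⁻¹ * a⁻¹ := by rw [h1]
      _ = x * a * x⁻¹ * (w * a⁻¹) := by simp [mul_assoc]
      _ = x * a * x⁻¹ * (a⁻¹ * w) := by rw [(show Commute a w from h2).inv_left.eq]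
      _ = ⁅x, a⁆ * w := by simp [commutatorElement_def, mul_assoc]
  have hYV : Y ≤ centralizer (V : Set G) := by
    exact Coprime.thompson_PxQ hBp
      (hQ.coprime_dvd_left (card_dvd_of_le (hYX.trans inf_le_left))) (ElemAbelian.isPGroup hV)
      (le_centralizer_iff.1 (hYX.trans inf_le_right)) hBV
      ((hYX.trans inf_le_left).trans hQV) (le_centralizer_iff.1 hYW)
  have hYbot : Y = ⊥ := le_bot_iff.1 (hQf ▸ le_inf (hYX.trans inf_le_left) hYV)
  exact commutator_eq_bot_iff_le_centralizer.1 hYbot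

variable {V H : Subgroup G}

/-- An abelian group in equality containing a transvection group splits off a smaller one. -/
theorem exists_smaller (h : Setup 2 V H) {A T : Subgroup G} (hAH : A ≤ H)
    (hA : IsMulCommutative A) (hT : IsTransvGroup 2 V H T) (hTA : T ≤ A) :
    ∃ A₁ : Subgroup G, A₁ ≤ A ∧ A₁ ⊔ T = A ∧ Nat.card A₁ < Nat.card A ∧
      Nat.card A * Nat.card ↥(V ⊓ centralizer (A : Set G)) ≤
        Nat.card A₁ * Nat.card ↥(V ⊓ centralizer (A₁ : Set G)) := by
  have hAc : A ≤ centralizer (T : Set G) :=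
    (le_centralizer_iff_isMulCommutative.2 hA).trans (centralizer_le (SetLike.coe_subset_coe.2 hTA))
  set E := groupE 2 H T with hE
  set U := ⁅V, E⁆ with hU
  have hEH : E ≤ H := h.groupE_le hT
  have hUV : U ≤ V := Quadratic.commutator_le (hEH.trans h.le_norm)
  have hTE : T ≤ E := IsTransvGroup.le_groupE 2 H T
  obtain ⟨u, huU, huT⟩ : ∃ u ∈ U, u ∉ centralizer (T : Set G) := by
    by_contra hc
    push Not at hc
    refine hT.ne_bot (le_bot_iff.1 ?_)
    rw [← h.groupE_faithful hT]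
    exact le_inf hTE (le_centralizer_iff.1 hc)
  obtain ⟨t, htT, htu⟩ : ∃ t ∈ T, t * u ≠ u * t := by
    by_contra hc
    push Not at hc
    exact huT (mem_centralizer_iff.2 hc)
  have ht2 : t ^ 2 = 1 := by
    have h2 : (⟨t, htT⟩ : T) ^ Nat.card T = 1 := pow_card_eq_one'
    rw [hT.2.1] at h2
    exact congrArg Subtype.val h2
  have ht1 : t ≠ 1 := fun h => htu (by rw [h, one_mul, mul_one])
  have hTz : ∀ s ∈ T, s = 1 ∨ s = t := by
    intro s hs
    have : Fintype T := Fintype.ofFinite T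
    by_contra hc
    push Not at hc
    have h3 : 2 < Nat.card T := by
      rw [Nat.card_eq_fintype_card, Fintype.two_lt_card_iff]
      exact ⟨1, ⟨t, htT⟩, ⟨s, hs⟩, fun e => ht1 (congrArg Subtype.val e).symm,
        fun e => hc.1 (congrArg Subtype.val e).symm, fun e => hc.2 (congrArg Subtype.val e).symm⟩
    rw [hT.2.1] at h3
    exact lt_irrefl _ h3
  have hcU : ∀ {x y : G}, x ∈ U → y ∈ U → x * y = y * x := fun hx hy =>
    ElemAbelian.comm h.elemAb (hUV hx) (hUV hy)
  have hconj : ∀ a ∈ A, ∀ x ∈ U, a * x * a⁻¹ ∈ U := by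
    intro a ha x hx
    have hN : ∀ K : Subgroup G, a ∈ normalizer (K : Set G) →
        K.map (MulAut.conj a).toMonoidHom = K := by
      intro K hK
      ext y
      rw [mem_map_equiv, MulAut.conj_symm_apply]
      simpa using mem_normalizer_iff.1 (inv_mem hK) y |>.symm
    have hE' : E.map (MulAut.conj a).toMonoidHom = E := by
      rw [hE, groupE, Subgroup.map_sup, map_commutator, hN _ (le_normalizer_core (hAH ha)),
        hN T (centralizer_le_normalizer _ (hAc ha))]
    have := mem_map_of_mem (MulAut.conj a).toMonoidHom hx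
    rwa [hU, map_commutator, hN V (h.le_norm (hAH ha)), hE'] at this
  set v := t * u * t⁻¹ with hv
  have hvU : v ∈ U := hconj t (hTA htT) u huU
  have hvu : v ≠ u := fun e => htu (mul_inv_eq_iff_eq_mul.1 e)
  have hnotC : ∀ a ∈ A, a * u * a⁻¹ ∉ centralizer (T : Set G) := by
    intro a ha hc
    refine huT ?_
    have := mul_mem (mul_mem (inv_mem (hAc ha)) hc) (hAc ha)
    simpa [mul_assoc] using this
  have huv : ∀ x ∈ U, x ∉ centralizer (T : Set G) → x = u ∨ x = v := by
    intro x hx hxT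
    by_contra hc
    push Not at hc
    have hcU : u * v ∈ centralizer (T : Set G) := by
      refine mem_centralizer_iff.2 fun s hs => ?_
      rcases hTz s hs with rfl | rfl
      · simp
      · have htt : s * s = 1 := by rw [← sq]; exact ht2
        have hsi : s⁻¹ = s := inv_eq_of_mul_eq_one_right htt
        have h1 : s * (u * v) * s = v * u := by
          rw [hv, hsi]
          simp [mul_assoc, htt]
        rw [← hcU huU hvU] at h1
        calc s * (u * v) = s * (u * v) * (s * s) := by rw [htt, mul_one]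
          _ = u * v * s := by rw [← mul_assoc, h1]
    have hf : Fintype ↥U := Fintype.ofFinite _
    have h4 : Nat.card ↥U = 4 := h.card_commutator hT
    have hne : u * v ≠ 1 := by
      intro e
      refine hvu ?_
      rw [eq_comm, ← inv_eq_of_mul_eq_one_right e]
      exact (inv_eq_of_mul_eq_one_right (by rw [← sq]; exact h.elemAb.2 u (hUV huU))).symm
    have h5 : 4 < Nat.card ↥U := by
      classical
      rw [Nat.card_eq_fintype_card]
      have hsub : ({(1 : ↥U), ⟨u * v, mul_mem huU hvU⟩, ⟨u, huU⟩, ⟨v, hvU⟩, ⟨x, hx⟩} :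
          Finset ↥U).card = 5 := by
        have e1 : u ≠ 1 := fun e => huT (e ▸ one_mem _)
        have e2 : x ≠ 1 := fun e => hxT (e ▸ one_mem _)
        have e3 : v ≠ 1 := fun e => e1 (conj_eq_one_iff.1 e)
        have e4 : x ≠ u * v := fun e => hxT (e ▸ hcU)
        have e5 : u * v ≠ u := fun e => e3 (mul_eq_left.1 e)
        have e6 : u * v ≠ v := fun e => e1 (mul_eq_right.1 e)
        simp [Finset.card_insert_of_notMem, hne.symm, e1.symm, e2.symm, e3.symm, e4.symm, e5,
          e6, hvu.symm, hc.1.symm, hc.2.symm, Subtype.ext_iff]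
      have := Finset.card_le_univ
        ({(1 : ↥U), ⟨u * v, mul_mem huU hvU⟩, ⟨u, huU⟩, ⟨v, hvU⟩, ⟨x, hx⟩} : Finset ↥U)
      omega
    omega
  refine ⟨A ⊓ centralizer ({u} : Set G), inf_le_left, le_antisymm (sup_le inf_le_left hTA) ?_,
    ?_, ?_⟩
  · intro a ha
    rcases huv _ (hconj a ha u huU) (hnotC a ha) with e | e
    · exact mem_sup_left ⟨ha, mem_centralizer_singleton_iff.2 (mul_inv_eq_iff_eq_mul.1 e)⟩
    · have hm : t⁻¹ * a ∈ A ⊓ centralizer ({u} : Set G) := by
        refine ⟨A.mul_mem (A.inv_mem (hTA htT)) ha, mem_centralizer_singleton_iff.2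
          (mul_inv_eq_iff_eq_mul.1 ?_)⟩
        calc t⁻¹ * a * u * (t⁻¹ * a)⁻¹ = t⁻¹ * (a * u * a⁻¹) * t := by simp [mul_assoc]
          _ = u := by rw [e, hv]; simp [mul_assoc]
      have ha' : a = t * (t⁻¹ * a) := by rw [mul_inv_cancel_left]
      rw [ha', sup_comm]
      exact mul_mem_sup htT hm
  · refine lt_of_le_of_ne (card_le_of_le inf_le_left) fun e => ?_
    have := (eq_of_le_of_card_ge (inf_le_left : A ⊓ centralizer ({u} : Set G) ≤ A) e.ge).ge (hTA htT)
    exact htu (mem_centralizer_singleton_iff.1 this.2)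
  · have hlt : V ⊓ centralizer (A : Set G) <
        V ⊓ centralizer ((A ⊓ centralizer ({u} : Set G) : Subgroup G) : Set G) := by
      refine lt_of_le_of_ne (inf_le_inf_left _ (centralizer_le
        (SetLike.coe_subset_coe.2 inf_le_left))) fun e => ?_
      have hu' : u ∈ V ⊓ centralizer ((A ⊓ centralizer ({u} : Set G) : Subgroup G) : Set G) :=
        ⟨hUV huU, mem_centralizer_iff.2 fun y hy => mem_centralizer_singleton_iff.1 (mem_inf.1 hy).2⟩
      exact htu (mem_centralizer_iff.1 (e ▸ hu').2 t (hTA htT))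
    have hstep := le_card_relIndex_step ((ElemAbelian.isPGroup h.elemAb).to_le inf_le_left) hlt
    have hA2 : Nat.card A ≤ 2 * Nat.card ↥(A ⊓ centralizer ({u} : Set G)) := by
      let A₁ := A ⊓ centralizer ({u} : Set G)
      have key : ∀ a : A, ∃ z : A₁ × T, (z.1 : G) * z.2 = a := by
        intro a
        rcases huv _ (hconj a a.2 u huU) (hnotC a a.2) with e | e
        · exact ⟨(⟨a, a.2, mem_centralizer_singleton_iff.2 (mul_inv_eq_iff_eq_mul.1 e)⟩, 1),
            mul_one _⟩
        · refine ⟨(⟨t⁻¹ * a, A.mul_mem (A.inv_mem (hTA htT)) a.2, mem_centralizer_singleton_iff.2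
            (mul_inv_eq_iff_eq_mul.1 ?_)⟩, ⟨t, htT⟩), ?_⟩
          · calc t⁻¹ * (a : G) * u * (t⁻¹ * a)⁻¹ = t⁻¹ * ((a : G) * u * (a : G)⁻¹) * t := by
                  simp [mul_assoc]
              _ = u := by rw [e, hv]; simp [mul_assoc]
          · show t⁻¹ * (a : G) * t = a
            rw [mul_assoc, ← (mem_centralizer_iff.1 (hAc a.2) t htT), inv_mul_cancel_left]
      choose f hf using key
      have hinj : Function.Injective f := fun a b e => Subtype.ext (by rw [← hf a, ← hf b, e])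
      have := Nat.card_le_card_of_injective f hinj
      rw [Nat.card_prod, hT.2.1, mul_comm] at this
      exact this
    calc Nat.card A * Nat.card ↥(V ⊓ centralizer (A : Set G))
        ≤ Nat.card ↥(A ⊓ centralizer ({u} : Set G)) *
            (2 * Nat.card ↥(V ⊓ centralizer (A : Set G))) := by
          rw [← mul_assoc, mul_comm _ 2]
          exact Nat.mul_le_mul_right _ hA2
      _ ≤ _ := Nat.mul_le_mul_left _ hstep

/-- **The bound for abelian `2`-subgroups**, with equality only in the elementary abelian case. -/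
theorem offender_bound (h : Setup 2 V H) {A : Subgroup G} (hAH : A ≤ H) (hA : IsMulCommutative A)
    (hAp : IsPGroup 2 A) :
    Nat.card A * Nat.card ↥(V ⊓ centralizer (A : Set G)) ≤ Nat.card V ∧
      (Nat.card A * Nat.card ↥(V ⊓ centralizer (A : Set G)) = Nat.card V →
        IsElementaryAbelian 2 A) := by
  induction hcn : Nat.card A using Nat.strong_induction_on generalizing A with
  | _ N ih =>
  subst hcn
  rcases eq_or_ne A ⊥ with rfl | hA1
  · refine ⟨?_, fun _ => ElemAbelian.bot⟩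
    rw [card_bot, one_mul]
    exact card_le_of_le inf_le_left
  set Q := core 2 H with hQ
  have hAQ : A ≤ normalizer (Q : Set G) := hAH.trans le_normalizer_core
  obtain ⟨m, hm⟩ := IsPGroup.iff_card.1 hAp
  have hne : ¬ Q ≤ centralizer (A : Set G) := fun hc => hA1 (le_bot_iff.1
    (h.faithful_core hAH hAp ▸ le_inf le_rfl (le_centralizer_iff.1 hc)))
  obtain ⟨B, hBA, g, hgA, hBg, hBne⟩ : ∃ B ≤ A, ∃ g ∈ A, B ⊔ zpowers g = A ∧
      ¬ Q ⊓ centralizer (B : Set G) ≤ centralizer (A : Set G) := by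
    by_contra hcon
    push Not at hcon
    have := hA
    exact hne ((Coprime.le_of_cocyclic hAQ (hm ▸ ((core_coprime (p := 2) (H := H)).symm.pow_left m))
      (L := Q ⊓ centralizer (A : Set G))
      fun B hB g hg e => le_inf inf_le_left (hcon B hB g hg e)).trans inf_le_right)
  set Bs := A ⊓ centralizer ((Q ⊓ centralizer (B : Set G) : Subgroup G) : Set G) with hBs
  have hBBs : B ≤ Bs := le_inf hBA (le_centralizer_iff.1 inf_le_right)
  have hBsA : Bs ≤ A := inf_le_left
  have hBslt : Bs < A := lt_of_le_of_ne hBsA fun e =>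
    hBne (le_centralizer_iff.1 (e.ge.trans inf_le_right))
  have hsupBs : Bs ⊔ zpowers g = A := le_antisymm (sup_le hBsA (zpowers_le.2 hgA))
    (hBg.ge.trans (sup_le_sup_right hBBs _))
  have hAcA : A ≤ centralizer (A : Set G) := le_centralizer_iff_isMulCommutative.2 hA
  set W := V ⊓ centralizer (Bs : Set G) with hW
  have hAW : A ≤ normalizer (W : Set G) := Coprime.le_normalizer_inf_centralizer
    (hAH.trans h.le_norm) ((hAcA.trans (centralizer_le (SetLike.coe_subset_coe.2 hBsA))).trans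
      (centralizer_le_normalizer _))
  have hWel : IsElementaryAbelian 2 W := ElemAbelian.mono h.elemAb inf_le_left
  -- elements of `A` fixing `W` lie in `Bs`
  have hfaith : ∀ a ∈ A, a ∈ centralizer (W : Set G) → a ∈ Bs := by
    intro a ha hac
    have key := centralizes_of_fix (V := V) (Q := Q) (A := Bs ⊔ zpowers a) (B := Bs) h.elemAb
      ((sup_le hBsA (zpowers_le.2 ha)).trans
        (hAcA.trans (centralizer_le (SetLike.coe_subset_coe.2 hBsA))))
      (hAp.to_le hBsA) ((sup_le hBsA (zpowers_le.2 ha)).trans hAQ) (hBsA.trans (hAH.trans h.le_norm))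
      (core_le.trans h.le_norm) (le_bot_iff.1 ((inf_le_inf_right _ core_le).trans h.faithful.le))
      core_coprime (by
        rw [le_centralizer_iff]
        exact sup_le (le_centralizer_iff.1 inf_le_right) (zpowers_le.2 hac))
    refine ⟨ha, le_centralizer_iff.1 (le_trans ?_ key) (mem_sup_right (mem_zpowers a))⟩
    exact le_inf inf_le_left (le_centralizer_iff.1 inf_le_right)
  -- the order of `g` modulo `Bs`
  obtain ⟨n, hn⟩ : ∃ n, g ^ 2 ^ n ∈ Bs := by
    obtain ⟨n, hn⟩ := hAp ⟨g, hgA⟩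
    exact ⟨n, by rw [show g ^ 2 ^ n = 1 from congrArg Subtype.val hn]; exact one_mem _⟩
  classical
  set k := Nat.find (⟨n, hn⟩ : ∃ n, g ^ 2 ^ n ∈ Bs) with hk
  have hkmem : g ^ 2 ^ k ∈ Bs := Nat.find_spec (⟨n, hn⟩ : ∃ n, g ^ 2 ^ n ∈ Bs)
  have hgB : g ∉ Bs := fun hg => hBslt.ne (by rw [← hsupBs, sup_eq_left.2 (zpowers_le.2 hg)])
  obtain ⟨j, hj⟩ : ∃ j, k = j + 1 := Nat.exists_eq_succ_of_ne_zero fun e => hgB (by
    simpa [e] using hkmem)
  have hjnot : g ^ 2 ^ j ∉ Bs := Nat.find_min (⟨n, hn⟩ : ∃ n, g ^ 2 ^ n ∈ Bs) (by omega)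
  obtain ⟨hchain, hchain2⟩ := conj_chain hWel (hAW hgA) (n := k) (j := j)
    (le_centralizer_iff.1 inf_le_right hkmem) (fun hc => hjnot (hfaith _ (pow_mem hgA _) hc))
  have hCA : W ⊓ centralizer ({g} : Set G) = V ⊓ centralizer (A : Set G) := by
    refine le_antisymm (le_inf (inf_le_left.trans inf_le_left) ?_) ?_
    · rw [← hsupBs, le_centralizer_iff]
      refine sup_le (le_centralizer_iff.1 (inf_le_left.trans inf_le_right)) (zpowers_le.2 ?_)
      exact mem_centralizer_iff.2 fun x hx => mem_centralizer_singleton_iff.1 (mem_inf.1 hx).2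
    · refine le_inf (inf_le_inf_left _ (centralizer_le (SetLike.coe_subset_coe.2 hBsA)))
        (inf_le_right.trans (centralizer_le (Set.singleton_subset_iff.2 hgA)))
  have hAcard : Nat.card A ≤ Nat.card Bs * 2 ^ k := by
    have hA' := hA
    have key : ∀ a : A, ∃ z : Bs × Fin (2 ^ k), (z.1 : G) * g ^ (z.2 : ℕ) = a := by
      intro a
      obtain ⟨b, hb, c, hc, e⟩ := exists_mul_eq_of_le_normalizer (K := Bs) (L := zpowers g)
        ((zpowers_le.2 hgA).trans ((hAcA.trans (centralizer_le (SetLike.coe_subset_coe.2 hBsA))).trans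
          (centralizer_le_normalizer _))) (hsupBs.ge a.2)
      obtain ⟨i, rfl⟩ := mem_zpowers_iff.1 hc
      refine ⟨(⟨b * (g ^ 2 ^ k) ^ (i / (2 ^ k : ℕ) : ℤ), mul_mem hb (zpow_mem hkmem _)⟩,
        ⟨(i % (2 ^ k : ℕ)).toNat, ?_⟩), ?_⟩
      · have h1 := Int.emod_nonneg i (show ((2 ^ k : ℕ) : ℤ) ≠ 0 by positivity)
        have h2 := Int.emod_lt_of_pos i (show (0 : ℤ) < ((2 ^ k : ℕ) : ℤ) by positivity)
        omega
      · show b * (g ^ 2 ^ k) ^ (i / (2 ^ k : ℕ) : ℤ) * g ^ (i % (2 ^ k : ℕ)).toNat = a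
        rw [← e, ← zpow_natCast g (i % _).toNat, Int.toNat_of_nonneg
          (Int.emod_nonneg i (by positivity)), ← zpow_natCast g (2 ^ k), ← zpow_mul, mul_assoc,
          ← zpow_add, Int.mul_ediv_add_emod]
    choose f hf using key
    have := Nat.card_le_card_of_injective f fun a b e => Subtype.ext (by rw [← hf a, ← hf b, e])
    rwa [Nat.card_prod, Nat.card_fin] at this
  rw [hCA] at hchain
  have hBscard : Nat.card Bs < Nat.card A :=
    lt_of_le_of_ne (card_le_of_le hBsA) fun e => hBslt.ne (eq_of_le_of_card_ge hBsA e.ge)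
  obtain ⟨hIH, hIHeq⟩ := ih _ hBscard (hBsA.trans hAH)
    (ThompsonA.isMulCommutative_of_le hA hBsA) (hAp.to_le hBsA) rfl
  have hk2 : 2 ^ k ≤ 2 ^ 2 ^ j := Nat.pow_le_pow_right (by norm_num)
    (by have := Nat.lt_two_pow_self (n := j); omega)
  set a0 := Nat.card ↥(V ⊓ centralizer (A : Set G)) with ha0
  have hb : Nat.card A * a0 ≤ Nat.card Bs * Nat.card W := by
    calc Nat.card A * a0 ≤ Nat.card Bs * 2 ^ k * a0 := Nat.mul_le_mul_right _ hAcard
      _ ≤ Nat.card Bs * 2 ^ 2 ^ j * a0 := Nat.mul_le_mul_right _ (Nat.mul_le_mul_left _ hk2)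
      _ = Nat.card Bs * (a0 * 2 ^ 2 ^ j) := by ring
      _ ≤ _ := Nat.mul_le_mul_left _ hchain
  refine ⟨hb.trans hIH, fun heq => ?_⟩
  have hBseq : Nat.card Bs * Nat.card W = Nat.card V := le_antisymm hIH (heq ▸ hb)
  have hBsel := hIHeq hBseq
  -- a transvection group inside `A`, unless `A` has order `2`
  suffices hex : IsElementaryAbelian 2 A ∨ ∃ T, IsTransvGroup 2 V H T ∧ T ≤ A by
    rcases hex with hel | ⟨T, hT, hTA⟩
    · exact hel
    obtain ⟨A₁, hA₁A, hA₁T, hlt, hle⟩ := exists_smaller h hAH hA hT hTA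
    obtain ⟨hA₁, hA₁eq⟩ := ih _ hlt (hA₁A.trans hAH) (ThompsonA.isMulCommutative_of_le hA hA₁A)
      (hAp.to_le hA₁A) rfl
    rw [← hA₁T]
    exact ElemAbelian.sup (hA₁eq (le_antisymm hA₁ (heq ▸ hle))) (h.elemAb_offender hT.1 hT.2.2)
      fun x hx y hy => (mem_centralizer_iff.1 (hAcA (hTA hy)) x (hA₁A hx)).symm
  rcases eq_or_ne Bs ⊥ with hb0 | hb0
  swap
  · refine Or.inr ?_
    have hoff := (h.isBestOffenderOn_iff (hBsA.trans hAH)).2 ⟨hBsel, hBseq⟩
    by_contra hno
    refine hb0 (le_bot_iff.1 ((h.le_iSup_transvGroup (hBsA.trans hAH) hoff).trans (iSup_le ?_)))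
    exact fun T => absurd ⟨T.1, T.2.1, T.2.2.trans hBsA⟩ hno
  have hWV : W = V := by
    refine inf_eq_left.2 fun v _ => mem_centralizer_iff.2 fun x hx => ?_
    rw [SetLike.mem_coe, hb0, mem_bot] at hx
    rw [hx, one_mul, mul_one]
  have hzA : zpowers g = A := by rw [← hsupBs, hb0, bot_sup_eq]
  rcases eq_or_ne j 0 with hj0 | hj0
  · refine Or.inl (hzA ▸ ElemAbelian.zpowers ?_)
    rw [hj, hj0, hb0, mem_bot] at hkmem
    simpa using hkmem
  -- now `g` has order `4`
  refine Or.inr ⟨zpowers (g ^ 2), ?_, zpowers_le.2 (pow_mem hgA 2)⟩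
  rw [hb0, card_bot, one_mul] at hAcard
  rw [hWV] at hchain hchain2
  have hj1 : j = 1 := by
    by_contra hj1
    have h3 : 2 ^ k * 2 ≤ 2 ^ 2 ^ j := by
      rw [← pow_succ]
      exact Nat.pow_le_pow_right (by norm_num) (by
        have : j + 2 ≤ 2 ^ j := by
          obtain ⟨i, rfl⟩ : ∃ i, j = i + 2 := ⟨j - 2, by omega⟩
          have := Nat.lt_two_pow_self (n := i)
          rw [pow_add]
          omega
        omega)
    have h4 := (Nat.mul_le_mul_left a0 h3).trans hchain
    have h5 : Nat.card V ≤ 2 ^ k * a0 := heq ▸ Nat.mul_le_mul_right _ hAcard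
    have : 0 < 2 ^ k * a0 := Nat.mul_pos (by positivity) Nat.card_pos
    nlinarith
  subst hj1
  rw [hj, hb0, mem_bot] at hkmem
  rw [hb0, mem_bot] at hjnot
  have hg2 : (g ^ 2) ^ 2 = 1 := by rw [← pow_mul]; simpa using hkmem
  have hg21 : g ^ 2 ≠ 1 := by simpa using hjnot
  have hel : IsElementaryAbelian 2 (zpowers (g ^ 2)) := ElemAbelian.zpowers hg2
  have hcard2 : Nat.card (zpowers (g ^ 2)) = 2 := by
    rw [Nat.card_zpowers]
    exact orderOf_eq_prime hg2 hg21
  refine ⟨(zpowers_le.2 (pow_mem hgA 2)).trans hAH, hcard2, ?_⟩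
  refine (h.isBestOffenderOn_iff ((zpowers_le.2 (pow_mem hgA 2)).trans hAH)).2 ⟨hel, ?_⟩
  refine le_antisymm (h.card_mul_le ((zpowers_le.2 (pow_mem hgA 2)).trans hAH) hel) ?_
  have hCz : V ⊓ centralizer (zpowers (g ^ 2) : Set G) = V ⊓ centralizer ({g ^ 2} : Set G) := by
    rw [zpowers_eq_closure, centralizer_closure]
  rw [hCz, hcard2]
  rw [hWV] at hCA
  rw [hCA] at hchain2
  have hstep := le_card_relIndex_step ((ElemAbelian.isPGroup h.elemAb).to_le inf_le_left) hchain2
  have h5 : Nat.card V ≤ 2 ^ k * a0 := heq ▸ Nat.mul_le_mul_right _ hAcard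
  rw [hj] at h5
  calc Nat.card V ≤ 2 * (2 * a0) := by norm_num at h5; omega
    _ ≤ _ := Nat.mul_le_mul_left _ hstep

end

end Cfsg.Agent.Lib.Offenders.AbelianTwo
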