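import Mathlib
import Cfsg.Agent.Lib.Offenders.Bridge

/-!
`[O_p'(H), A]` for a transvection group `A` is a `3`-group (`p = 2`) or a non-abelian `2`-group
(`p = 3`).
-/

set_option autoImplicit false

namespace Cfsg.Agent.Lib.Offenders

open Subgroup
open scoped commutatorElement

theorem card_sl_two : Nat.card (Matrix.SpecialLinearGroup (Fin 2) (ZMod 2)) = 6 := by
  rw [Nat.card_eq_fintype_card]; decide

theorem card_sl_three : Nat.card (Matrix.SpecialLinearGroup (Fin 2) (ZMod 3)) = 24 := by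
  rw [Nat.card_eq_fintype_card]; decide

theorem noncomm_three :
    (lower 3 (-1) * (upper 3)⁻¹) * (upper 3 * (lower 3 (-1) * (upper 3)⁻¹) * (upper 3)⁻¹) ≠
      (upper 3 * (lower 3 (-1) * (upper 3)⁻¹) * (upper 3)⁻¹) * (lower 3 (-1) * (upper 3)⁻¹) := by
  decide

theorem dvd_of_transv {G : Type*} [Group G] [Finite G] {p : ℕ} [Fact p.Prime] {V H A : Subgroup G}
    (h : Setup p V H) (hA : IsTransvGroup p V H A) {n : ℕ}
    (hn : Nat.card (Matrix.SpecialLinearGroup (Fin 2) (ZMod p)) = p * n) :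
    Nat.card ↥⁅core p H, A⁆ ∣ n := by
  obtain ⟨e⟩ := h.nonempty_mulEquiv hA
  have h1 : Nat.card ↥⁅core p H, A⁆ ∣ p * n := by
    rw [← hn, ← Nat.card_congr e.toEquiv]
    exact card_dvd_of_le (le_sup_left : _ ≤ groupE p H A)
  refine Nat.Coprime.dvd_of_dvd_mul_left ?_ h1
  exact core_coprime.coprime_dvd_left (card_dvd_of_le
    (Coprime.commutator_le_of_le_normalizer (hA.1.trans le_normalizer_core)))

theorem commutator_core_cases {G : Type*} [Group G] [Finite G] {p : ℕ} [Fact p.Prime]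
    {V H A : Subgroup G} (h : Setup p V H) (hA : IsTransvGroup p V H A) :
    (p = 2 ∧ IsPGroup 3 ↥⁅core p H, A⁆) ∨
      (p = 3 ∧ IsPGroup 2 ↥⁅core p H, A⁆ ∧ ¬ IsMulCommutative ↥⁅core p H, A⁆) := by
  obtain ⟨d⟩ := h.nonempty_data hA
  rcases h.small_prime hA with rfl | rfl
  · left
    refine ⟨rfl, ?_⟩
    have hd := dvd_of_transv h hA (n := 3) (by rw [card_sl_two])
    haveI : Fact (Nat.Prime 3) := ⟨Nat.prime_three⟩
    obtain ⟨j, -, hj⟩ := (Nat.dvd_prime_pow Nat.prime_three (m := 1)).1 (by simpa using hd)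
    exact IsPGroup.of_card hj
  · right
    refine ⟨rfl, ?_, fun hcomm => ?_⟩
    · have hd := dvd_of_transv h hA (n := 8) (by rw [card_sl_three])
      haveI : Fact (Nat.Prime 2) := ⟨Nat.prime_two⟩
      obtain ⟨j, -, hj⟩ := (Nat.dvd_prime_pow Nat.prime_two (m := 3)).1 (by simpa using hd)
      exact IsPGroup.of_card hj
    · set z : H := d.x * d.a * d.x⁻¹ * d.a⁻¹ with hz
      have haA : (d.a : G) ∈ A := d.eA.ge (mem_zpowers _)
      have hz1 : (z : G) ∈ ⁅core 3 H, A⁆ := by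
        have := commutator_mem_commutator (mem_map_of_mem H.subtype d.hx : (d.x : G) ∈ core 3 H) haA
        rw [show (z : G) = ⁅(d.x : G), (d.a : G)⁆ by simp [hz, commutatorElement_def]]
        exact this
      have hz2 : (d.a : G) * z * (d.a : G)⁻¹ ∈ ⁅core 3 H, A⁆ :=
        (mem_normalizer_iff.1 (normalizer_commutator_ge_right _ _ haA) _).1 hz1
      have hc := congrArg Subtype.val (mul_comm' (⟨_, hz1⟩ : ↥⁅core 3 H, A⁆) ⟨_, hz2⟩)
      simp only [Subgroup.coe_mul] at hc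
      have hk := d.P.k_eq h.ctx d.z_mem
      set e₁ : d.P.E := ⟨d.x * d.a * d.x⁻¹, d.P.b_mem_E⟩ * ⟨d.a, d.P.a_mem_E⟩⁻¹
      set e₂ : d.P.E := ⟨d.a, d.P.a_mem_E⟩ * e₁ * ⟨d.a, d.P.a_mem_E⟩⁻¹
      have he : e₁ * e₂ = e₂ * e₁ := Subtype.ext (Subtype.ext hc)
      have := congrArg d.P.toSL he
      simp only [e₁, e₂, map_mul, map_inv, d.P.toSL_a, d.P.toSL_b, hk] at this
      exact noncomm_three this

end Cfsg.Agent.Lib.Offenders
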